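import Cfsg.Agent.U62Rec.S36.Check.RM1
import Cfsg.Agent.U62Rec.Main

/-!
# A configuration (RM1)

Here `G = H·O(G)`.
-/

set_option autoImplicit false
set_option maxRecDepth 65536
set_option maxHeartbeats 4000000

namespace Cfsg.Agent.U62Rec.S36.RM1

theorem sides_ok : sidesOK [(oc0, row0), (oc1, row1), (oc2, row2)] = true := by decide +kernel

/-- The result for this configuration. -/
theorem main {G : Type*} [Group G] [Finite G] {z : G} (M : Mod ⟨gens, lin⟩ z) :
    Subgroup.centralizer ({z} : Set G) ⊔ Cfsg.oddCore G = ⊤ :=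
  red_main M facts sides_ok (by decide +kernel)

end Cfsg.Agent.U62Rec.S36.RM1
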